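import Mathlib
import Cfsg.Agent.S0205
import Cfsg.Agent.Lib.Group.MinimalNormalFactor

/-!
A group acting irreducibly on an elementary abelian two-group with maximal stabilisers of
nonzero vectors: no soluble normal subgroup.
-/

set_option autoImplicit false

namespace Cfsg.Lib.AffineExtreme

open MulAction

variable {H V : Type*} [Group H] [AddCommGroup V] [DistribMulAction H V]

/-- The hypotheses on an affine extremely primitive stabiliser in characteristic two. -/
structure Setting (H V : Type*) [Group H] [AddCommGroup V] [DistribMulAction H V] : Prop where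
  char : ∀ v : V, v + v = 0
  faithful : ∀ h : H, (∀ v : V, h • v = v) → h = 1
  irr : ∀ W : AddSubgroup V, (∀ h : H, ∀ w ∈ W, h • w ∈ W) → W = ⊥ ∨ W = ⊤
  coatom : ∀ v : V, v ≠ 0 → IsCoatom (stabilizer H v)
  insol : ¬ Group.IsSolvable H

theorem nsmul_odd (hV : ∀ v : V, v + v = 0) {n : ℕ} (hn : Odd n) (v : V) : n • v = v := by
  obtain ⟨m, rfl⟩ := hn
  rw [add_nsmul, mul_nsmul', two_nsmul, hV, one_nsmul, zero_add]

theorem eq_of_add (hV : ∀ v : V, v + v = 0) {x y : V} (h : x + y = 0) : x = y := by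
  calc x = x + (y + y) := by rw [hV, add_zero]
    _ = (x + y) + y := by abel
    _ = y := by rw [h, zero_add]

/-- The sum of a vector over the powers of an element is fixed by it. -/
theorem smul_geom_sum {x : H} {y : V} {r : ℕ} (h : x ^ r • y = y) :
    x • (∑ i ∈ Finset.range r, x ^ i • y) = ∑ i ∈ Finset.range r, x ^ i • y := by
  rw [Finset.smul_sum]
  simp only [← mul_smul, ← pow_succ']
  have h1 := Finset.sum_range_succ (fun i => x ^ i • y) r
  have h2 := Finset.sum_range_succ' (fun i => x ^ i • y) r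
  rw [h2] at h1
  simp only [pow_zero, one_smul, h] at h1
  exact add_right_cancel h1

theorem sum_pow_mul {b : H} {r : ℕ} (hr : r.Prime) (hb : b ^ r = 1) {i : ℕ} (hi : ¬ r ∣ i)
    (y : V) : ∑ j ∈ Finset.range r, b ^ (i * j) • y = ∑ j ∈ Finset.range r, b ^ j • y := by
  have hinj : Set.InjOn (fun j => i * j % r) (Finset.range r : Finset ℕ) := by
    intro j hj k hk hjk
    rw [Finset.coe_range, Set.mem_Iio] at hj hk
    have hm : j ≡ k [MOD r] :=
      Nat.ModEq.cancel_left_of_coprime ((Nat.Prime.coprime_iff_not_dvd hr).2 hi) hjk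
    exact Nat.ModEq.eq_of_lt_of_lt hm hj hk
  have himg : (Finset.range r).image (fun j => i * j % r) = Finset.range r := by
    refine Finset.eq_of_subset_of_card_le ?_ (le_of_eq ?_)
    · intro z hz
      obtain ⟨j, -, rfl⟩ := Finset.mem_image.1 hz
      exact Finset.mem_range.2 (Nat.mod_lt _ hr.pos)
    · rw [Finset.card_image_of_injOn hinj]
  conv_rhs => rw [← himg]
  rw [Finset.sum_image hinj]
  exact Finset.sum_congr rfl fun j _ => by rw [← pow_eq_pow_mod _ hb]

theorem nontrivial_group (h : Setting H V) : Nontrivial H := by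
  by_contra hn
  rw [not_nontrivial_iff_subsingleton] at hn
  exact h.insol inferInstance

theorem exists_ne_zero (h : Setting H V) : ∃ v : V, v ≠ 0 := by
  have := nontrivial_group h
  obtain ⟨x, hx⟩ := exists_ne (1 : H)
  by_contra hv
  push Not at hv
  exact hx (h.faithful x fun v => by rw [hv (x • v), hv v])

theorem normal_not_le (h : Setting H V) {K : Subgroup H} [hK : K.Normal] {v : V} (hv : v ≠ 0)
    (hle : K ≤ stabilizer H v) : K = ⊥ := by
  let W : AddSubgroup V :=
    { carrier := {w | ∀ k ∈ K, k • w = w}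
      add_mem' := fun hx hy k hk => by rw [smul_add, hx k hk, hy k hk]
      zero_mem' := fun k _ => smul_zero k
      neg_mem' := fun hx k hk => by rw [smul_neg, hx k hk] }
  have hW : ∀ g : H, ∀ w ∈ W, g • w ∈ W := fun g w hw k hk => by
    have := hw (g⁻¹ * k * g) (by simpa using hK.conj_mem k hk g⁻¹)
    calc k • g • w = g • ((g⁻¹ * k * g) • w) := by simp only [← mul_smul]; congr 1; group
      _ = g • w := by rw [this]
  rcases h.irr W hW with hb | ht
  · exact absurd ((AddSubgroup.mem_bot).1 (hb ▸ (show v ∈ W from fun k hk => hle hk))) hv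
  · rw [eq_bot_iff]
    exact fun k hk => Subgroup.mem_bot.2
      (h.faithful k fun w => (show w ∈ W from ht ▸ AddSubgroup.mem_top w) k hk)

theorem sup_eq_top (h : Setting H V) {K : Subgroup H} [K.Normal] (hK : K ≠ ⊥) {v : V}
    (hv : v ≠ 0) : stabilizer H v ⊔ K = ⊤ := by
  by_contra hne
  refine hK (normal_not_le h hv (?_ : K ≤ stabilizer H v))
  by_contra hle
  exact hne ((h.coatom v hv).2 _ (left_lt_sup.2 hle))

/-- The centraliser of a nontrivial normal subgroup is semiregular on nonzero vectors. -/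
theorem semiregular (h : Setting H V) {K : Subgroup H} [hK : K.Normal] (hKne : K ≠ ⊥) {v : V}
    (hv : v ≠ 0) {x : H} (hx : x ∈ Subgroup.centralizer (K : Set H)) (hxv : x • v = v) :
    x = 1 := by
  have hn : (stabilizer H v ⊓ Subgroup.centralizer (K : Set H)).Normal := ⟨fun y hy g => by
    obtain ⟨hy1, hy2⟩ := Subgroup.mem_inf.1 hy
    obtain ⟨m, hm, k, hk, rfl⟩ := Subgroup.mem_sup_of_normal_right.1
      ((sup_eq_top h hKne hv).symm ▸ Subgroup.mem_top g)
    have hky : k * y * k⁻¹ = y := by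
      rw [Subgroup.mem_centralizer_iff.1 hy2 k hk, mul_inv_cancel_right]
    rw [show m * k * y * (m * k)⁻¹ = m * (k * y * k⁻¹) * m⁻¹ by group, hky]
    exact Subgroup.mem_inf.2 ⟨(stabilizer H v).mul_mem ((stabilizer H v).mul_mem hm hy1)
      ((stabilizer H v).inv_mem hm),
      (inferInstance : (Subgroup.centralizer (K : Set H)).Normal).conj_mem y hy2 m⟩⟩
  have := normal_not_le h (K := stabilizer H v ⊓ Subgroup.centralizer (K : Set H)) hv inf_le_left
  exact Subgroup.mem_bot.1 (this ▸ Subgroup.mem_inf.2 ⟨mem_stabilizer_iff.2 hxv, hx⟩)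

theorem exists_fixed_of_sq (h : Setting H V) {x : H} (hx : x * x = 1) :
    ∃ v : V, v ≠ 0 ∧ x • v = v := by
  obtain ⟨v, hv⟩ := exists_ne_zero h
  by_cases hxv : x • v = v
  · exact ⟨v, hv, hxv⟩
  · refine ⟨v + x • v, fun he => hxv (eq_of_add h.char he).symm, ?_⟩
    rw [smul_add, ← mul_smul, hx, one_smul, add_comm]

theorem odd_centralizer [Finite H] (h : Setting H V) {K : Subgroup H} [K.Normal] (hKne : K ≠ ⊥) :
    Odd (Nat.card (Subgroup.centralizer (K : Set H))) := by
  rw [← Nat.not_even_iff_odd, even_iff_two_dvd]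
  intro h2
  have : Fact (Nat.Prime 2) := ⟨Nat.prime_two⟩
  obtain ⟨x, hx⟩ := exists_prime_orderOf_dvd_card' (G := Subgroup.centralizer (K : Set H)) 2 h2
  have hxx : (x : H) * x = 1 := by
    have := pow_orderOf_eq_one x
    rw [hx, pow_two] at this
    exact congrArg Subtype.val this
  obtain ⟨v, hv, hxv⟩ := exists_fixed_of_sq h hxx
  have := semiregular h hKne hv x.2 hxv
  rw [show x = 1 from Subtype.ext this, orderOf_one] at hx
  omega

theorem no_abelian [Finite H] (h : Setting H V) {N₀ : Subgroup H} [hn : N₀.Normal]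
    (hne : N₀ ≠ ⊥) (hmin : ∀ M : Subgroup H, M.Normal → M ≤ N₀ → M ≠ ⊥ → M = N₀)
    (hc : N₀ ≤ Subgroup.centralizer (N₀ : Set H)) : False := by
  classical
  have hodd := odd_centralizer h hne
  have hcard : 1 < Nat.card N₀ := (Subgroup.one_lt_card_iff_ne_bot N₀).2 hne
  set r := (Nat.card N₀).minFac with hr
  have hrp : r.Prime := Nat.minFac_prime (by omega)
  have hrodd : Odd r := hodd.of_dvd_nat ((Nat.minFac_dvd _).trans (Subgroup.card_dvd_of_le hc))
  have : Fact r.Prime := ⟨hrp⟩
  obtain ⟨x₀, hx₀⟩ := exists_prime_orderOf_dvd_card' (G := N₀) r (Nat.minFac_dvd _)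
  set x : H := (x₀ : H) with hx
  have hxo : orderOf x = r := by rw [hx, Subgroup.orderOf_coe, hx₀]
  have hx1 : x ≠ 1 := fun e => by rw [e, orderOf_one] at hxo; exact hrp.one_lt.ne hxo
  have hcomm : ∀ a ∈ N₀, ∀ b ∈ N₀, Commute a b := fun a ha b hb =>
    (Subgroup.mem_centralizer_iff.1 (hc hb) a ha)
  let E : Subgroup H :=
    { carrier := {a | a ∈ N₀ ∧ a ^ r = 1}
      one_mem' := ⟨N₀.one_mem, one_pow _⟩
      mul_mem' := fun ha hb => ⟨N₀.mul_mem ha.1 hb.1, by
        rw [(hcomm _ ha.1 _ hb.1).mul_pow, ha.2, hb.2, one_mul]⟩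
      inv_mem' := fun ha => ⟨N₀.inv_mem ha.1, by rw [inv_pow, ha.2, inv_one]⟩ }
  have hE : E = N₀ := by
    refine hmin E ⟨fun a ha g => ⟨hn.conj_mem a ha.1 g, by rw [conj_pow, ha.2]; group⟩⟩
      (fun a ha => ha.1) fun hb => hx1 (Subgroup.mem_bot.1 (hb ▸ (show x ∈ E from
        ⟨x₀.2, by rw [← hxo, pow_orderOf_eq_one]⟩)))
  have hzp : N₀ ≤ Subgroup.zpowers x := by
    intro y hy
    by_contra hyx
    obtain ⟨v, hv⟩ := exists_ne_zero h
    have hyr : y ^ r = 1 := ((hE ▸ hy : y ∈ E)).2
    have hxr : x ^ r = 1 := by rw [← hxo, pow_orderOf_eq_one]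
    have hzero : ∀ z ∈ N₀, z ≠ 1 → z ^ r = 1 →
        ∑ i ∈ Finset.range r, z ^ i • v = (0 : V) := fun z hz hz1 hzr => by
      by_contra hs
      exact hz1 (semiregular h hne hs (hc hz)
        (smul_geom_sum (by rw [hzr, one_smul])))
    have hy1 : y ≠ 1 := fun e => hyx (e ▸ Subgroup.one_mem _)
    have hpow : ∀ k, ¬ r ∣ k → y ^ k ∉ Subgroup.zpowers x := fun k hk hmem => hyx <| by
      have hyo : orderOf y = r := orderOf_eq_prime hyr hy1
      obtain ⟨m, hm⟩ := exists_pow_eq_self_of_coprime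
        (show k.Coprime (orderOf y) by
          rw [hyo, Nat.coprime_comm]; exact (Nat.Prime.coprime_iff_not_dvd hrp).2 hk)
      rw [← hm]
      exact Subgroup.pow_mem _ hmem m
    have h1 : ∀ j ∈ Finset.range r, ∑ i ∈ Finset.range r, (x * y ^ j) ^ i • v = (0 : V) := by
      intro j hj
      refine hzero _ (N₀.mul_mem x₀.2 (N₀.pow_mem hy j)) (fun e => ?_) ?_
      · by_cases hj0 : j = 0
        · rw [hj0, pow_zero, mul_one] at e; exact hx1 e
        · refine hpow j (fun hd => hj0 (Nat.eq_zero_of_dvd_of_lt hd (Finset.mem_range.1 hj))) ?_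
          rw [eq_inv_of_mul_eq_one_right e]
          exact Subgroup.inv_mem _ (Subgroup.mem_zpowers x)
      · rw [(hcomm _ x₀.2 _ (N₀.pow_mem hy j)).mul_pow, hxr, ← pow_mul, mul_comm, pow_mul, hyr,
          one_pow, one_mul]
    have h2 : ∀ i ∈ Finset.range r, i ≠ 0 →
        ∑ j ∈ Finset.range r, (x * y ^ j) ^ i • v = (0 : V) := by
      intro i hi hi0
      have hnd : ¬ r ∣ i := fun hd => hi0 (Nat.eq_zero_of_dvd_of_lt hd (Finset.mem_range.1 hi))
      have he : ∀ j, (x * y ^ j) ^ i • v = x ^ i • (y ^ i) ^ j • v := fun j => by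
        rw [(hcomm _ x₀.2 _ (N₀.pow_mem hy j)).mul_pow, mul_smul, ← pow_mul, ← pow_mul, mul_comm]
      simp only [he, ← Finset.smul_sum]
      rw [hzero (y ^ i) (N₀.pow_mem hy i) (fun e => hpow i hnd (e ▸ Subgroup.one_mem _))
        (by rw [← pow_mul, mul_comm, pow_mul, hyr, one_pow]), smul_zero]
    apply hv
    have h3 := Finset.sum_eq_zero h1
    rw [Finset.sum_comm, Finset.sum_eq_single 0 h2
      (fun h0 => absurd (Finset.mem_range.2 hrp.pos) h0)] at h3
    simpa [nsmul_odd h.char hrodd] using h3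
  have hEq : N₀ = Subgroup.zpowers x := le_antisymm hzp (Subgroup.zpowers_le.2 x₀.2)
  let φ : H →* MulAut N₀ := MulAut.conjNormal
  have hker : φ.ker ≤ (Subgroup.centralizer (N₀ : Set H)).subtype.range := by
    intro g hg
    rw [Subgroup.range_subtype, Subgroup.mem_centralizer_iff]
    intro a ha
    have h1 : g * a * g⁻¹ = a := by
      have := DFunLike.congr_fun (MonoidHom.mem_ker.1 hg) ⟨a, ha⟩
      simpa [φ, Subtype.ext_iff] using this
    exact (mul_inv_eq_iff_eq_mul.1 h1).symm
  have hcyc : IsCyclic N₀ := by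
    rw [hEq]; infer_instance
  have hab : ∀ f g : MulAut N₀, f * g = g * f := fun f g => by
    apply (IsCyclic.mulAutMulEquiv N₀).injective
    rw [map_mul, map_mul, mul_comm]
  have : Group.IsSolvable (MulAut N₀) := Group.isSolvable_of_comm hab
  have : Group.IsSolvable (Subgroup.centralizer (N₀ : Set H)) := Cfsg.Agent.S0205.result hodd
  exact h.insol (Group.isSolvable_of_ker_le_range _ φ hker)

theorem no_solvable [Finite H] (h : Setting H V) {K : Subgroup H} [hK : K.Normal]
    (hs : Group.IsSolvable K) : K = ⊥ := by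
  by_contra hne
  obtain ⟨N₀, hn, hle, hne₀, hmin⟩ := Cfsg.Lib.Group.MinFactor.exists_minimal_normal hK hne
  refine no_abelian h hne₀ hmin ?_
  have : Group.IsSolvable N₀ :=
    Group.isSolvable_of_isSolvable_injective (f := Subgroup.inclusion hle) (Subgroup.inclusion_injective hle)
  have : Nontrivial N₀ := (Subgroup.nontrivial_iff_ne_bot N₀).2 hne₀
  have hlt : commutator N₀ < ⊤ := Group.IsSolvable.commutator_lt_top_of_nontrivial N₀
  have h0 : ⁅N₀, N₀⁆ = ⊥ := by
    by_contra hb
    have he := hmin ⁅N₀, N₀⁆ inferInstance (Subgroup.commutator_le_self N₀) hb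
    apply hlt.ne
    apply Subgroup.map_injective N₀.subtype_injective
    rw [Subgroup.map_subtype_commutator, he, ← MonoidHom.range_eq_map, Subgroup.range_subtype]
  exact Subgroup.commutator_eq_bot_iff_le_centralizer.1 h0

theorem centralizer_eq_bot [Finite H] (h : Setting H V) {K : Subgroup H} [K.Normal]
    (hKne : K ≠ ⊥) : Subgroup.centralizer (K : Set H) = ⊥ :=
  no_solvable h (Cfsg.Agent.S0205.result (odd_centralizer h hKne))

end Cfsg.Lib.AffineExtreme
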