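import Cfsg.Agent.Lib.Invol.Embedded
import Cfsg.Agent.Lib.Solv.Frobenius

/-!
A simple group has no proper subgroup of even order containing the normalisers of all its
nontrivial subgroups.
-/

set_option autoImplicit false

namespace Cfsg.Lib.AffineExtreme

open Subgroup Cfsg.Lib.Invol
open scoped Pointwise

variable {G : Type*} [Group G]

theorem false_of_normalizers [Finite G] [IsSimpleGroup G] {R : Subgroup G} (hne : R ≠ ⊤)
    (heven : Even (Nat.card R))
    (hnorm : ∀ K : Subgroup G, K ≤ R → K ≠ ⊥ → ∀ a : G, (∀ x ∈ K, a * x * a⁻¹ ∈ K) → a ∈ R) :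
    False := by
  classical
  have hcent : ∀ c ∈ R, c ≠ 1 → ∀ x : G, Commute x c → x ∈ R := fun c hc hc1 x hx =>
    hnorm (zpowers c) (zpowers_le.2 hc) (zpowers_ne_bot.2 hc1) x (fun y hy => by
      obtain ⟨k, rfl⟩ := mem_zpowers_iff.1 hy
      rw [(hx.zpow_right k).eq, mul_inv_cancel_right]
      exact zpow_mem (mem_zpowers c) k)
  have : Fact (Nat.Prime 2) := ⟨Nat.prime_two⟩
  have hse : IsStronglyEmbedded R := by
    refine (stronglyEmbedded_iff hne heven).2 fun t ht ht2 g hg => ?_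
    set c := g * t * g⁻¹ with hc
    have hc2 : orderOf c = 2 := by rw [hc, orderOf_conj_eq, ht2]
    have hcR' : g⁻¹ * c * g ∈ R := by rw [hc]; simpa [mul_assoc] using ht
    obtain ⟨Q, hQ⟩ := (IsPGroup.of_card (p := 2) (n := 1)
      (show Nat.card (zpowers c) = 2 ^ 1 by rw [Nat.card_zpowers, hc2, pow_one])).exists_le_sylow
    have hcQ : c ∈ (Q : Subgroup G) := hQ (mem_zpowers c)
    have : Nontrivial (Q : Subgroup G) :=
      ⟨⟨⟨c, hcQ⟩, 1, fun h => Invol.ne_one hc2 (congrArg Subtype.val h)⟩⟩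
    have := Q.isPGroup'.center_nontrivial
    obtain ⟨⟨z, hz⟩, hz1⟩ := exists_ne (1 : center (Q : Subgroup G))
    have hzne : (z : G) ≠ 1 := fun h => hz1 (Subtype.ext (Subtype.ext h))
    have hzc : ∀ q ∈ (Q : Subgroup G), Commute q (z : G) := fun q hq =>
      congrArg Subtype.val (mem_center_iff.1 hz ⟨q, hq⟩)
    have hzR : (z : G) ∈ R := hcent c hg (Invol.ne_one hc2) _ (hzc c hcQ).symm
    have hzR' : g⁻¹ * (z : G) * g ∈ R :=
      hcent _ hcR' (by simpa [mul_assoc, inv_mul_eq_one, eq_comm] using Invol.ne_one hc2) _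
        (by
          show g⁻¹ * (z : G) * g * (g⁻¹ * c * g) = g⁻¹ * c * g * (g⁻¹ * (z : G) * g)
          have := (hzc c hcQ).eq
          calc _ = g⁻¹ * ((z : G) * c) * g := by group
            _ = g⁻¹ * (c * (z : G)) * g := by rw [this]
            _ = _ := by group)
    have hQR : (Q : Subgroup G) ≤ R := fun q hq => hcent _ hzR hzne q (hzc q hq)
    have hQR' : ((g⁻¹ : G) • Q : Sylow 2 G).1 ≤ R := by
      rintro x hx
      rw [Sylow.coe_subgroup_smul] at hx
      obtain ⟨q, hq, rfl⟩ := hx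
      refine hcent _ hzR' (by simpa [mul_assoc, inv_mul_eq_one, eq_comm] using hzne) _ ?_
      show g⁻¹ * q * g⁻¹⁻¹ * (g⁻¹ * (z : G) * g) = g⁻¹ * (z : G) * g * (g⁻¹ * q * g⁻¹⁻¹)
      rw [inv_inv]
      calc _ = g⁻¹ * (q * (z : G)) * g := by group
        _ = g⁻¹ * ((z : G) * q) * g := by rw [(hzc q hq).eq]
        _ = _ := by group
    obtain ⟨r, hr⟩ := MulAction.exists_smul_eq (R : Subgroup G) (((g⁻¹ : G) • Q).subtype hQR')
      (Q.subtype hQR)
    rw [Sylow.smul_subtype] at hr
    have hQne : (Q : Subgroup G) ≠ ⊥ := fun hb => by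
      rw [hb, mem_bot] at hcQ; exact Invol.ne_one hc2 hcQ
    have hmem : (r : G) * g⁻¹ ∈ R := by
      refine hnorm Q hQR hQne _ fun x hx => ?_
      have h1 := congrArg Sylow.toSubgroup (Sylow.subtype_injective hr)
      rw [Subgroup.smul_def, smul_smul, Sylow.coe_subgroup_smul] at h1
      rw [← h1]
      exact ⟨x, hx, rfl⟩
    have := R.mul_mem (R.inv_mem r.2) hmem
    rw [← mul_assoc, inv_mul_cancel, one_mul] at this
    simpa using R.inv_mem this
  have hR1 : R ≠ ⊥ := fun hb => by rw [hb, card_bot] at heven; exact Nat.not_even_one heven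
  have hfrob : Cfsg.IsFrobeniusComplement R := by
    refine ⟨hR1, hne, fun g hg => ?_⟩
    by_contra hD
    obtain ⟨c, hc, hc2⟩ := exists_involution_of_even heven
    set d := g * c * g⁻¹ with hd
    have hd2 : orderOf d = 2 := by rw [hd, orderOf_conj_eq, hc2]
    have hdR : d ∉ R := fun h => hg (se_mem hse hc hc2 h)
    obtain ⟨e, he, het⟩ := exists_conj_of_odd hc2 hd2 (se_odd_product hse hc hc2 hdR hd2)
    have hne' : c ≠ d := fun h => hdR (h ▸ hc)
    obtain ⟨a, ha2, hat⟩ : ∃ a : G, orderOf a = 2 ∧ a * c * a⁻¹ = d := by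
      have htt := Invol.inv_mul_self hc2
      have hinv := conj_mul_left hc2 hd2
      obtain ⟨k, hk | hk⟩ := (mem_closure_pair hc2 hd2).mp he
      · refine ⟨e * c, orderOf_eq_two_of (fun h => hne' ?_) ?_, ?_⟩
        · rw [← het, eq_inv_of_mul_eq_one_left h]; group
        · rw [hk, zpow_mul_of_inverts htt hinv]; exact mul_zpow_sq htt hinv _
        · rw [← het]; group
      · refine ⟨e, orderOf_eq_two_of (fun h => hne' ?_) (hk ▸ mul_zpow_sq htt hinv k), het⟩
        rw [← het, h]; group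
    have hga : g⁻¹ * a ∈ R := se_mem hse hc hc2 (by
      rw [show g⁻¹ * a * c * (g⁻¹ * a)⁻¹ = g⁻¹ * (a * c * a⁻¹) * g by group, hat, hd,
        show g⁻¹ * (g * c * g⁻¹) * g = c by group]
      exact hc)
    have haR : a ∉ R := fun h => hdR (by
      rw [← hat]; exact R.mul_mem (R.mul_mem h hc) (R.inv_mem h))
    have haa : a⁻¹ = a := Invol.inv_eq_self ha2
    have key : ∀ x : G, x ∈ MulAut.conj g • R ↔ a * x * a ∈ R := fun x => by
      rw [mem_pointwise_smul_iff_inv_smul_mem, ← map_inv]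
      show g⁻¹ * x * g⁻¹⁻¹ ∈ R ↔ _
      rw [inv_inv]
      constructor
      · intro h
        have := R.mul_mem (R.mul_mem (R.inv_mem hga) h) hga
        simpa [mul_assoc, haa] using this
      · intro h
        have := R.mul_mem (R.mul_mem hga h) (R.inv_mem hga)
        simpa [mul_assoc, haa, Invol.inv_mul_self ha2, ← mul_assoc a a] using this
    refine haR (hnorm _ inf_le_left hD a fun x hx => ?_)
    obtain ⟨hx1, hx2⟩ := mem_inf.1 hx
    rw [key] at hx2
    refine mem_inf.2 ⟨by rwa [haa], ?_⟩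
    rw [key, haa,
      show a * (a * x * a) * a = (a * a) * x * (a * a) by group, Invol.inv_mul_self ha2,
      one_mul, mul_one]
    exact hx1
  obtain ⟨N, -, hNn, hNc⟩ := Cfsg.Lib.Solv.frobenius_theorem hfrob
  rcases IsSimpleGroup.eq_bot_or_eq_top_of_normal N hNn with rfl | rfl
  · exact hne (isComplement'_bot_left.1 hNc)
  · exact hR1 (isComplement'_top_left.1 hNc)

end Cfsg.Lib.AffineExtreme
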