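import Cfsg.Agent.Lib.AffineExtreme.Basic
import Cfsg.Agent.Lib.AffineExtreme.Embedded

/-!
An irreducible group on an elementary abelian two-group with maximal stabilisers of nonzero
vectors is almost simple or soluble.
-/

set_option autoImplicit false

namespace Cfsg.Lib.AffineExtreme

open MulAction Cfsg.Lib.Group.MinFactor

variable {H V : Type*} [Group H] [AddCommGroup V] [DistribMulAction H V] {N₀ S : Subgroup H}

/-- No nonzero vector is fixed by a factor. -/
theorem factor_not_le (h : Setting H V) [N₀.Normal]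
    (hne : N₀ ≠ ⊥) (hmin : ∀ M : Subgroup H, M.Normal → M ≤ N₀ → M ≠ ⊥ → M = N₀)
    (hS : Factor N₀ S) {v : V} (hv : v ≠ 0) : ¬ S ≤ stabilizer H v := by
  intro hle
  refine hne (normal_not_le h hv ?_)
  refine (hS.iSup_conj hmin).symm.le.trans (iSup_le fun g => ?_)
  rintro _ ⟨s, hs, rfl⟩
  obtain ⟨m, hm, n, hn, rfl⟩ := Subgroup.mem_sup_of_normal_right.1
    ((sup_eq_top h hne hv).symm ▸ Subgroup.mem_top g)
  show m * n * s * (m * n)⁻¹ ∈ stabilizer H v
  rw [show m * n * s * (m * n)⁻¹ = m * (n * s * n⁻¹) * m⁻¹ by group]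
  exact (stabilizer H v).mul_mem ((stabilizer H v).mul_mem hm (hle (hS.norm n hn s hs)))
    ((stabilizer H v).inv_mem hm)

/-- A stabiliser meeting a factor nontrivially meets the product with the other factors
componentwise. -/
theorem fixed_of_prod (h : Setting H V) [hN : N₀.Normal]
    (hne : N₀ ≠ ⊥) (hmin : ∀ M : Subgroup H, M.Normal → M ≤ N₀ → M ≠ ⊥ → M = N₀)
    (hS : Factor N₀ S) {v : V} (hv : v ≠ 0) (hSv : S ⊓ stabilizer H v ≠ ⊥) {a c : H}
    (ha : a ∈ S) (hc : c ∈ N₀ ⊓ Subgroup.centralizer (S : Set H)) (hfix : (a * c) • v = v) :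
    a • v = v := by
  set M := stabilizer H v with hM
  let cj : H → Subgroup H := fun g => S.map (MulAut.conj g).toMonoidHom
  let X : Set H := {x | ∃ g : H, x ∈ cj g ∧ ∃ m ∈ N₀ ⊓ M, ∀ t ∈ cj g, Commute (m⁻¹ * x) t}
  let P := Subgroup.closure X
  have hcm := Subgroup.mem_centralizer_iff.1 (Subgroup.mem_inf.1 hc).2
  by_cases hPM : P ≤ M
  · have h1 : cj 1 = S := by
      ext y
      simp [cj, Subgroup.mem_map]
    refine mem_stabilizer_iff.1 (hPM (Subgroup.subset_closure
      ⟨1, h1.symm ▸ ha, a * c, ⟨N₀.mul_mem (hS.le ha) (Subgroup.mem_inf.1 hc).1, hfix⟩, ?_⟩))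
    intro t ht
    rw [h1] at ht
    rw [show (a * c)⁻¹ * a = c⁻¹ by group]
    exact Commute.inv_left (hcm t ht).symm
  · exfalso
    have hMn : M ≤ Subgroup.normalizer (P : Set H) := by
      intro m hm
      rw [Subgroup.mem_normalizer_iff]
      have key : ∀ m ∈ M, ∀ y ∈ P, m * y * m⁻¹ ∈ P := by
        intro m hm y hy
        have : P ≤ P.comap (MulAut.conj m).toMonoidHom := by
          refine (Subgroup.closure_le _).2 ?_
          rintro x ⟨g, hx, k, hk, hcomm⟩
          refine Subgroup.subset_closure ⟨m * g, ?_, m * k * m⁻¹,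
            ⟨hN.conj_mem k (Subgroup.mem_inf.1 hk).1 m,
              M.mul_mem (M.mul_mem hm (Subgroup.mem_inf.1 hk).2) (M.inv_mem hm)⟩, ?_⟩
          · obtain ⟨s, hs, rfl⟩ := hx
            exact ⟨s, hs, by simp [mul_assoc]⟩
          · rintro _ ⟨s, hs, rfl⟩
            have := (hcomm _ ⟨s, hs, rfl⟩).map (MulAut.conj m).toMonoidHom
            simpa [mul_assoc] using this
        exact this hy
      refine fun y => ⟨key m hm y, fun hy => ?_⟩
      simpa [mul_assoc] using key m⁻¹ (M.inv_mem hm) _ hy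
    have htop : M ⊔ P = ⊤ := (h.coatom v hv).2 _ (left_lt_sup.2 hPM)
    have hPn : P.Normal := Subgroup.normalizer_eq_top_iff.1 (top_le_iff.1
      (htop ▸ sup_le hMn Subgroup.le_normalizer))
    have hPN : P ≤ N₀ := (Subgroup.closure_le _).2 fun x ⟨g, hx, _⟩ => (hS.conj g).le hx
    have hPeq := hmin P hPn hPN fun hb => hPM (hb ▸ bot_le)
    have hprod : ∀ n ∈ N₀, n ∈ (N₀ ⊓ M) ⊔ (N₀ ⊓ Subgroup.centralizer (S : Set H)) := by
      intro n hn
      rw [← hPeq] at hn
      refine (Subgroup.closure_le _).2 ?_ hn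
      rintro x ⟨g, hx, k, hk, hcomm⟩
      by_cases heq : cj g = S
      · rw [show x = k * (k⁻¹ * x) by group]
        refine Subgroup.mul_mem_sup hk ⟨N₀.mul_mem (N₀.inv_mem (Subgroup.mem_inf.1 hk).1)
          ((hS.conj g).le hx), Subgroup.mem_centralizer_iff.2 fun t ht => ?_⟩
        exact (hcomm t (heq.symm ▸ ht)).eq.symm
      · exact Subgroup.mem_sup_right ⟨(hS.conj g).le hx, Subgroup.mem_centralizer_iff.2
          fun t ht => (hS.commute (hS.conj g) (Ne.symm heq) ht hx).eq⟩
    have hfull : S ⊓ M = S := by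
      refine hS.min _ inf_le_left (fun n hn s hs => ?_) hSv
      obtain ⟨hs1, hs2⟩ := Subgroup.mem_inf.1 hs
      refine ⟨hS.norm n hn s hs1, ?_⟩
      have hle : (N₀ ⊓ M) ⊔ (N₀ ⊓ Subgroup.centralizer (S : Set H)) ≤
          Subgroup.normalizer ((S ⊓ M : Subgroup H) : Set H) := by
        refine sup_le (fun m hm => ?_) (fun k hk => ?_)
        · rw [Subgroup.mem_normalizer_iff]
          refine fun y => ⟨fun hy => ⟨hS.norm m (Subgroup.mem_inf.1 hm).1 y (Subgroup.mem_inf.1 hy).1,
            M.mul_mem (M.mul_mem (Subgroup.mem_inf.1 hm).2 (Subgroup.mem_inf.1 hy).2)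
              (M.inv_mem (Subgroup.mem_inf.1 hm).2)⟩, fun hy => ?_⟩
          obtain ⟨hy1, hy2⟩ := Subgroup.mem_inf.1 hy
          obtain ⟨hm1, hm2⟩ := Subgroup.mem_inf.1 hm
          refine ⟨?_, ?_⟩
          · simpa [mul_assoc] using hS.norm m⁻¹ (N₀.inv_mem hm1) _ hy1
          · simpa [mul_assoc] using M.mul_mem (M.mul_mem (M.inv_mem hm2) hy2) hm2
        · rw [Subgroup.mem_normalizer_iff]
          have hkc := Subgroup.mem_centralizer_iff.1 (Subgroup.mem_inf.1 hk).2
          refine fun y => ⟨fun hy => ?_, fun hy => ?_⟩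
          · rw [← hkc y (Subgroup.mem_inf.1 hy).1, mul_inv_cancel_right]; exact hy
          · have hyS : y ∈ S := by
              simpa [mul_assoc] using
                hS.norm k⁻¹ (N₀.inv_mem (Subgroup.mem_inf.1 hk).1) _ (Subgroup.mem_inf.1 hy).1
            rwa [← hkc y hyS, mul_inv_cancel_right] at hy
      exact (Subgroup.mem_inf.1 ((Subgroup.mem_normalizer_iff.1 (hle (hprod n hn)) s).1 hs)).2
    exact factor_not_le h hne hmin hS hv (inf_eq_left.1 hfull)

/-- The normaliser of a nontrivial subgroup of a factor fixes its fixed vectors, provided there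
is a second factor. -/
theorem normalizer_fix [Finite H] (h : Setting H V) [N₀.Normal]
    (hne : N₀ ≠ ⊥) (hmin : ∀ M : Subgroup H, M.Normal → M ≤ N₀ → M ≠ ⊥ → M = N₀)
    (hS : Factor N₀ S) {g : H} (hg : S.map (MulAut.conj g).toMonoidHom ≠ S)
    {K : Subgroup H} (hKS : K ≤ S) (hK : K ≠ ⊥) {a : H} (ha : a ∈ S)
    (hnorm : ∀ x ∈ K, a * x * a⁻¹ ∈ K) {y : V} (hy : ∀ k ∈ K, k • y = y) : a • y = y := by
  classical
  suffices key : ∀ (n : ℕ) (a : H), orderOf a = n → a ∈ S → (∀ x ∈ K, a * x * a⁻¹ ∈ K) →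
      ∀ y : V, (∀ k ∈ K, k • y = y) → a • y = y from key _ a rfl ha hnorm y hy
  clear! a y
  intro n
  induction n using Nat.strong_induction_on with
  | _ n ih =>
  intro a hn ha hnorm y hy
  by_cases hn1 : n = 1
  · rw [hn1, orderOf_eq_one_iff] at hn
    rw [hn, one_smul]
  have hnorm' : ∀ i : ℕ, ∀ x ∈ K, a ^ i * x * (a ^ i)⁻¹ ∈ K := by
    intro i
    induction i with
    | zero => simp
    | succ i hi =>
      intro x hx
      rw [show a ^ (i + 1) * x * (a ^ (i + 1))⁻¹ = a ^ i * (a * x * a⁻¹) * (a ^ i)⁻¹ by group]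
      exact hi _ (hnorm x hx)
  have hinv : ∀ x ∈ K, a⁻¹ * x * a ∈ K := by
    obtain ⟨i, hi⟩ := mem_powers_iff_mem_zpowers.2
      ((Subgroup.zpowers a).inv_mem (Subgroup.mem_zpowers a))
    intro x hx
    have h1 := hnorm' i x hx
    simp only at hi
    rw [hi, inv_inv] at h1
    exact h1
  set r := n.minFac with hr
  have hrp : r.Prime := Nat.minFac_prime hn1
  have hn0 : 0 < n := hn ▸ orderOf_pos a
  have hrn : r ∣ n := Nat.minFac_dvd n
  have hpow : ∀ z : V, (∀ k ∈ K, k • z = z) → a ^ r • z = z := by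
    intro z hz
    refine ih (n / r) (Nat.div_lt_self hn0 hrp.one_lt) (a ^ r) ?_ (S.pow_mem ha r) (hnorm' r) z hz
    rw [orderOf_pow_of_dvd hrp.ne_zero (hn.symm ▸ hrn), hn]
  set S' := S.map (MulAut.conj g).toMonoidHom with hS'
  have hF : Factor N₀ S' := hS.conj g
  have hcS : ∀ {b : H}, b ∈ S' → ∀ s ∈ S, Commute s b := fun hb s hs =>
    hS.commute hF (Ne.symm hg) hs hb
  have hfixb : ∀ b ∈ S', ∀ z : V, (∀ k ∈ K, k • z = z) → ∀ k ∈ K, k • b • z = b • z :=
    fun b hb z hz k hk => by
      rw [← mul_smul, (hcS hb k (hKS hk)).eq, mul_smul, hz k hk]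
  -- vectors fixed by `a`
  let F : AddSubgroup V :=
    { carrier := {z | a • z = z}
      add_mem' := fun hx hy => by rw [Set.mem_ofPred_eq, smul_add, hx, hy]
      zero_mem' := smul_zero a
      neg_mem' := fun hx => by rw [Set.mem_ofPred_eq, smul_neg, hx] }
  have hB : ∀ b ∈ S', b ^ r = 1 → ∀ z : V, (∀ k ∈ K, k • z = z) → z + b • z ∈ F := by
    intro b hb hbr
    have main : ∀ z : V, (∀ k ∈ K, k • z = z) →
        r • z + ∑ i ∈ (Finset.range r).erase 0, a ^ i • (∑ j ∈ Finset.range r, b ^ j • z) ∈ F := by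
      intro z hz
      have hab : ∀ j : ℕ, Commute a (b ^ j) := fun j => hcS (S'.pow_mem hb j) a ha
      have hw : ∀ j : ℕ, ∑ i ∈ Finset.range r, (a * b ^ j) ^ i • z ∈ F := by
        intro j
        set w := ∑ i ∈ Finset.range r, (a * b ^ j) ^ i • z with hw
        show a • w = w
        have hwfix : (a * b ^ j) • w = w := smul_geom_sum (by
          rw [(hab j).mul_pow, ← pow_mul, mul_comm, pow_mul, hbr, one_pow, mul_one, hpow z hz])
        have hwK : ∀ k ∈ K, k • w = w := by
          intro k hk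
          rw [hw, Finset.smul_sum]
          refine Finset.sum_congr rfl fun i hi' => ?_
          clear hi'
          rw [(hab j).mul_pow, mul_smul, ← pow_mul, ← mul_smul,
            show k * a ^ i = a ^ i * ((a ^ i)⁻¹ * k * a ^ i) by group, mul_smul]
          congr 1
          refine hfixb _ (S'.pow_mem hb _) z hz _ ?_
          clear hw
          induction i with
          | zero => simpa using hk
          | succ i hi =>
            rw [show (a ^ (i + 1))⁻¹ * k * a ^ (i + 1) = a⁻¹ * ((a ^ i)⁻¹ * k * a ^ i) * a by group]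
            exact hinv _ hi
        by_cases hw0 : w = 0
        · rw [hw0, smul_zero]
        refine fixed_of_prod h hne hmin hS hw0 ?_ ha (c := b ^ j) ?_ hwfix
        · exact ne_bot_of_le_ne_bot hK (le_inf hKS fun k hk => mem_stabilizer_iff.2 (hwK k hk))
        · exact ⟨hF.le (S'.pow_mem hb j),
            Subgroup.mem_centralizer_iff.2 fun s hs => (hcS (S'.pow_mem hb j) s hs).eq⟩
      have hsum := F.sum_mem (t := Finset.range r) (fun j _ => hw j)
      rw [Finset.sum_comm, ← Finset.add_sum_erase _ _ (Finset.mem_range.2 hrp.pos)] at hsum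
      simp only [pow_zero, one_smul, Finset.sum_const, Finset.card_range] at hsum
      convert hsum using 2
      refine Finset.sum_congr rfl fun i hi => ?_
      obtain ⟨hi0, hir⟩ := Finset.mem_erase.1 hi
      rw [← sum_pow_mul hrp hbr (i := i)
        (fun hd => hi0 (Nat.eq_zero_of_dvd_of_lt hd (Finset.mem_range.1 hir))) z, Finset.smul_sum]
      refine Finset.sum_congr rfl fun j _ => ?_
      rw [(hab j).mul_pow, mul_smul, ← pow_mul, mul_comm]
    intro z hz
    rcases hrp.eq_two_or_odd' with h2 | hodd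
    · have h1 := main z hz
      rw [h2, show ((Finset.range 2).erase 0) = {1} by decide] at h1
      simp only [two_nsmul, h.char, zero_add, Finset.sum_singleton, pow_one,
        Finset.sum_range_succ, Finset.sum_range_zero, pow_zero, one_smul] at h1
      exact MulAction.injective a (show a • a • (z + b • z) = a • (z + b • z) from h1)
    · have h1 := main (z + b • z) (fun k hk => by rw [smul_add, hz k hk, hfixb b hb z hz k hk])
      have hzero : ∑ j ∈ Finset.range r, b ^ j • (z + b • z) = 0 := by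
        simp only [smul_add, Finset.sum_add_distrib]
        have hshift : ∑ j ∈ Finset.range r, b ^ j • b • z = ∑ j ∈ Finset.range r, b ^ j • z := by
          conv_rhs => rw [← smul_geom_sum (show b ^ r • z = z by rw [hbr, one_smul]),
            Finset.smul_sum]
          refine Finset.sum_congr rfl fun j _ => ?_
          rw [← mul_smul, ← mul_smul, (Commute.pow_self b j).eq]
        rw [hshift, h.char]
      rw [hzero] at h1
      simp only [smul_zero, Finset.sum_const_zero, add_zero, nsmul_odd h.char hodd] at h1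
      exact h1
  set d := a • y + y with hd
  have hd0 : d = 0 := by
    by_contra hd0
    let E := Subgroup.closure {b : H | b ∈ S' ∧ b ^ r = 1}
    have hEd : E ≤ stabilizer H d := (Subgroup.closure_le _).2 fun b ⟨hb, hbr⟩ => by
      rw [SetLike.mem_coe, mem_stabilizer_iff, hd, smul_add, ← mul_smul, ← (hcS hb a ha).eq,
        mul_smul]
      have h1 : a • y + a • b • y = y + b • y := by rw [← smul_add]; exact hB b hb hbr y hy
      exact eq_of_add h.char (by
        calc a • b • y + b • y + (a • y + y) = (a • y + a • b • y) + (y + b • y) := by abel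
          _ = 0 := by rw [h1, h.char])
    have hES : E ≤ S' := (Subgroup.closure_le _).2 fun b hb => hb.1
    have hEn : ∀ m ∈ N₀, ∀ e ∈ E, m * e * m⁻¹ ∈ E := by
      intro m hm e he
      have : E ≤ E.comap (MulAut.conj m).toMonoidHom := (Subgroup.closure_le _).2
        fun b ⟨hb, hbr⟩ => Subgroup.subset_closure
          ⟨hF.norm m hm b hb, by rw [← map_pow, hbr, map_one]⟩
      exact this he
    have hcardS : Nat.card S' = Nat.card S := (Nat.card_congr
      (S.equivMapOfInjective _ (MulAut.conj g).injective).toEquiv).symm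
    have : Fact r.Prime := ⟨hrp⟩
    obtain ⟨b, hb⟩ := exists_prime_orderOf_dvd_card' (G := S') r
      (hcardS ▸ hrn.trans (hn ▸ Subgroup.orderOf_dvd_natCard S ha))
    have hEne : E ≠ ⊥ := fun hbot => by
      have hbE : (b : H) ∈ E := Subgroup.subset_closure
        ⟨b.2, by rw [← hb, ← Subgroup.orderOf_coe b, pow_orderOf_eq_one]⟩
      rw [hbot, Subgroup.mem_bot] at hbE
      rw [← Subgroup.orderOf_coe b, hbE, orderOf_one] at hb
      exact hrp.one_lt.ne hb
    exact factor_not_le h hne hmin hF hd0 ((hF.min E hES hEn hEne).symm.le.trans hEd)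
  exact eq_of_add h.char (hd0 ▸ hd.symm)

theorem almost_simple [Finite H] [Finite V] (h : Setting H V) :
    ∃ T : Subgroup H, T.Normal ∧ IsSimpleGroup T ∧ ¬ IsMulCommutative T ∧
      Subgroup.centralizer (T : Set H) = ⊥ := by
  classical
  have hH := nontrivial_group h
  obtain ⟨N₀, hn, -, hne, hmin⟩ := exists_minimal_normal
    (K := (⊤ : Subgroup H)) inferInstance top_ne_bot
  have hcent := centralizer_eq_bot h hne
  have hnc : ¬ IsMulCommutative N₀ := fun hc => hne (eq_bot_iff.2
    ((Subgroup.le_centralizer N₀).trans hcent.le))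
  obtain ⟨S, hS⟩ := exists_factor hne
  have hsimple : IsSimpleGroup S := by
    have : Nontrivial S := (Subgroup.nontrivial_iff_ne_bot S).2 hS.ne
    refine ⟨fun R hR => ?_⟩
    by_cases hRb : R.map S.subtype = ⊥
    · exact Or.inl ((Subgroup.map_eq_bot_iff_of_injective _ S.subtype_injective).1 hRb)
    right
    have hmem := hS.min (R.map S.subtype) (Subgroup.map_subtype_le R) (fun m hm x hx => by
      rw [← hS.sup_centralizer hmin] at hm
      have hle : S ⊔ (N₀ ⊓ Subgroup.centralizer (S : Set H)) ≤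
          Subgroup.normalizer ((R.map S.subtype : Subgroup H) : Set H) := by
        refine sup_le (fun s hs => ?_) (inf_le_right.trans ?_)
        · rw [Subgroup.mem_normalizer_iff]
          refine fun z => ⟨?_, fun hz => ?_⟩
          · rintro ⟨z, hz, rfl⟩
            exact ⟨⟨s, hs⟩ * z * ⟨s, hs⟩⁻¹, hR.conj_mem z hz _, by simp⟩
          · obtain ⟨w, hw, he⟩ := hz
            refine ⟨⟨s, hs⟩⁻¹ * w * ⟨s, hs⟩, ?_, ?_⟩
            · simpa using hR.conj_mem w hw ⟨s, hs⟩⁻¹
            · have he' : (w : H) = s * z * s⁻¹ := he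
              simp [he', mul_assoc]
        · exact (Subgroup.centralizer_le (Subgroup.map_subtype_le R)).trans
            (Subgroup.centralizer_le_normalizer _)
      exact (Subgroup.mem_normalizer_iff.1 (hle hm) x).1 hx) hRb
    refine Subgroup.map_injective S.subtype_injective ?_
    rw [hmem, ← MonoidHom.range_eq_map, Subgroup.range_subtype]
  by_cases hall : ∀ g : H, S.map (MulAut.conj g).toMonoidHom = S
  · have hSN : S = N₀ := by
      refine le_antisymm hS.le ((hS.iSup_conj hmin).symm.le.trans (iSup_le fun g => (hall g).le))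
    exact ⟨N₀, hn, hSN ▸ hsimple, hnc, hcent⟩
  · exfalso
    push Not at hall
    obtain ⟨g, hg⟩ := hall
    have hSeven : Even (Nat.card S) := by
      rw [← Nat.not_odd_iff_even]
      intro hodd
      have : Group.IsSolvable S := Cfsg.Agent.S0205.result hodd
      have hc : ∀ a b : S, a * b = b * a := IsSimpleGroup.comm_iff_isSolvable.2 this
      apply hS.ne
      rw [eq_bot_iff, ← hS.inf_centralizer hmin hnc]
      exact le_inf le_rfl fun a ha => Subgroup.mem_centralizer_iff.2 fun b hb =>
        congrArg Subtype.val (hc ⟨b, hb⟩ ⟨a, ha⟩)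
    have : Fact (Nat.Prime 2) := ⟨Nat.prime_two⟩
    let Q : Sylow 2 S := default
    obtain ⟨v₀, hv₀⟩ := exists_ne_zero h
    have hV2 : 2 ∣ Nat.card V := by
      rw [← addOrderOf_eq_prime (p := 2) (show 2 • v₀ = 0 by rw [two_nsmul, h.char]) hv₀]
      exact addOrderOf_dvd_natCard v₀
    obtain ⟨v, hv, hv0⟩ := Q.isPGroup'.exists_fixed_point_of_prime_dvd_card_of_fixed_point V hV2
      (a := (0 : V)) (fun q => smul_zero _)
    let R : Subgroup S := (stabilizer H v).subgroupOf S
    have hQR : (Q : Subgroup S) ≤ R := fun q hq => Subgroup.mem_subgroupOf.2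
      (mem_stabilizer_iff.2 (hv ⟨q, hq⟩))
    refine false_of_normalizers (R := R) ?_ ?_ ?_
    · intro ht
      exact factor_not_le h hne hmin hS hv0.symm
        (Subgroup.subgroupOf_eq_top.1 ht)
    · rw [even_iff_two_dvd] at hSeven ⊢
      exact (Q.dvd_card_of_dvd_card hSeven).trans (Subgroup.card_dvd_of_le hQR)
    · intro K hKR hK a ha
      refine Subgroup.mem_subgroupOf.2 (mem_stabilizer_iff.2
        (normalizer_fix h hne hmin hS hg (Subgroup.map_subtype_le K) ?_ a.2 ?_ ?_))
      · rwa [Ne, Subgroup.map_eq_bot_iff_of_injective _ S.subtype_injective]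
      · rintro _ ⟨x, hx, rfl⟩
        exact ⟨a * x * a⁻¹, ha x hx, by simp⟩
      · rintro _ ⟨x, hx, rfl⟩
        exact mem_stabilizer_iff.1 (Subgroup.mem_subgroupOf.1 (hKR hx))

end Cfsg.Lib.AffineExtreme
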